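import Groth.Agent.H75.Extend.Ring
import Groth.Prelude.Def_CInt
import Mathlib.AlgebraicGeometry.AffineScheme
import Mathlib.AlgebraicGeometry.Morphisms.QuasiCompact

/-!
Extending functions across a closed set of depth ≥ 1, resp. ≥ 2 (no Noetherian hypotheses).
-/

set_option autoImplicit false

universe u

open CategoryTheory AlgebraicGeometry TopologicalSpace Opposite

namespace Groth.Agent.H75.Extend

variable {X : Scheme.{u}}

/-- Restriction of sections. -/
abbrev res {V W : X.Opens} (h : V ≤ W) (s : Γ(X, W)) : Γ(X, V) :=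
  (X.presheaf.map (homOfLE h).op).hom s

theorem res_res {V W O : X.Opens} (h : V ≤ W) (h' : W ≤ O) (s : Γ(X, O)) :
    res h (res h' s) = res (h.trans h') s :=
  (ConcreteCategory.congr_hom (X.presheaf.map_comp (homOfLE h').op (homOfLE h).op) s).symm

theorem germ_res {V W : X.Opens} (h : V ≤ W) (x : X) (hx : x ∈ V) (s : Γ(X, W)) :
    X.presheaf.germ V x hx (res h s) = X.presheaf.germ W x (h hx) s :=
  X.presheaf.germ_res_apply (homOfLE h) x hx s

theorem eq_zero_of_germ {W : X.Opens} (s : Γ(X, W))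
    (h : ∀ x (hx : x ∈ W), X.presheaf.germ W x hx s = 0) : s = 0 :=
  TopCat.Presheaf.section_ext X.sheaf W s 0 fun x hx => by
    change X.presheaf.germ W x hx s = X.presheaf.germ W x hx 0
    rw [h x hx, map_zero]

/-- A section vanishing on `U` vanishes if every point outside `U` has a regular element. -/
theorem eq_zero_of_res_eq_zero (U : X.Opens)
    (hZ : ∀ z : X, z ∉ U → ∃ a ∈ IsLocalRing.maximalIdeal (X.presheaf.stalk z),
      ∀ x, a * x = 0 → x = 0)
    {V : X.Opens} (s : Γ(X, V)) (h : res (inf_le_left : V ⊓ U ≤ V) s = 0) : s = 0 := by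
  refine eq_zero_of_germ s fun x hx => ?_
  obtain ⟨W, hW, hxW, hWV⟩ := exists_isAffineOpen_mem_and_subset (x := x) (U := V) hx
  let d : Γ(X, W) := res hWV s
  rw [← germ_res hWV x hxW]
  by_contra hne
  let I : Ideal Γ(X, W) := Ideal.torsionOf Γ(X, W) Γ(X, W) d
  have hI : ∀ m : Γ(X, W), m ∈ I ↔ m * d = 0 := fun m => (Ideal.mem_torsionOf_iff d m).trans Iff.rfl
  have hgerm : ∀ y (hy : y ∈ W),
      X.presheaf.germ W y hy d = 0 ↔ ¬ I ≤ (hW.primeIdealOf ⟨y, hy⟩).asIdeal := by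
    intro y hy
    letI := X.presheaf.algebra_section_stalk ⟨y, hy⟩
    haveI := hW.isLocalization_stalk ⟨y, hy⟩
    change algebraMap Γ(X, W) (X.presheaf.stalk y) d = 0 ↔
      ¬ I ≤ (hW.primeIdealOf ⟨y, hy⟩).asIdeal
    rw [IsLocalization.map_eq_zero_iff (hW.primeIdealOf ⟨y, hy⟩).asIdeal.primeCompl]
    constructor
    · rintro ⟨⟨m, hm⟩, hmd⟩ hle
      exact hm (hle ((hI m).mpr hmd))
    · intro hle
      obtain ⟨m, hmI, hmq⟩ := SetLike.not_le_iff_exists.mp hle
      exact ⟨⟨m, hmq⟩, (hI m).mp hmI⟩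
  have hIq : I ≤ (hW.primeIdealOf ⟨x, hxW⟩).asIdeal := by
    by_contra hle
    exact hne ((hgerm x hxW).mpr hle)
  obtain ⟨p, hp, hpq⟩ := Ideal.exists_minimalPrimes_le hIq
  obtain ⟨z, hzW, rfl⟩ : ∃ (z : X) (hzW : z ∈ W), (hW.primeIdealOf ⟨z, hzW⟩).asIdeal = p := by
    let P : PrimeSpectrum Γ(X, W) := ⟨p, hp.1.1⟩
    have hzW : hW.fromSpec P ∈ W := by rw [← SetLike.mem_coe, ← hW.range_fromSpec]; exact ⟨P, rfl⟩
    exact ⟨_, hzW, congrArg PrimeSpectrum.asIdeal
      (hW.fromSpec.isOpenEmbedding.injective (hW.fromSpec_primeIdealOf ⟨_, hzW⟩))⟩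
  by_cases hzU : z ∈ U
  · refine ((hgerm z hzW).mp ?_) hp.1.2
    rw [germ_res hWV _ hzW, ← germ_res (inf_le_left : V ⊓ U ≤ V) _ ⟨hWV hzW, hzU⟩, h, map_zero]
  · obtain ⟨a, ha, hreg⟩ := hZ _ hzU
    letI := X.presheaf.algebra_section_stalk ⟨z, hzW⟩
    haveI := hW.isLocalization_stalk ⟨z, hzW⟩
    obtain ⟨⟨a', ⟨v, hv⟩⟩, hav⟩ :=
      IsLocalization.surj (hW.primeIdealOf ⟨z, hzW⟩).asIdeal.primeCompl a
    have ha' : a' ∈ (hW.primeIdealOf ⟨z, hzW⟩).asIdeal := by
      rw [← IsLocalization.AtPrime.to_map_mem_maximal_iff (X.presheaf.stalk z)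
        (hW.primeIdealOf ⟨z, hzW⟩).asIdeal]
      exact hav ▸ Ideal.mul_mem_right _ _ ha
    obtain ⟨g, hg, n, hgn⟩ := exists_pow_mul_mem hp ha'
    refine ((hgerm z hzW).mp ?_) hp.1.2
    change algebraMap Γ(X, W) (X.presheaf.stalk z) d = 0
    have h0 := congrArg (algebraMap Γ(X, W) (X.presheaf.stalk z)) ((hI _).mp hgn)
    simp only [map_mul, map_pow, map_zero, ← hav] at h0
    have hu := (IsLocalization.map_units (X.presheaf.stalk z)
      (⟨v, hv⟩ : (hW.primeIdealOf ⟨z, hzW⟩).asIdeal.primeCompl)).pow n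
    have hgu := IsLocalization.map_units (X.presheaf.stalk z)
      (⟨g, hg⟩ : (hW.primeIdealOf ⟨z, hzW⟩).asIdeal.primeCompl)
    have hpow : ∀ (k : ℕ) (y : X.presheaf.stalk (z)), a ^ k * y = 0 → y = 0 := fun k => by
      induction k with
      | zero => intro y hy; simpa using hy
      | succ k ih => intro y hy; exact hreg _ (ih _ (by rw [← mul_assoc, ← pow_succ]; exact hy))
    refine hpow n _ ((hu.mul_right_eq_zero).mp ((hgu.mul_right_eq_zero).mp ?_))
    rw [← h0]
    ring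

theorem eq_of_res_eq {U : X.Opens}
    (hZ : ∀ z : X, z ∉ U → ∃ a ∈ IsLocalRing.maximalIdeal (X.presheaf.stalk z),
      ∀ x, a * x = 0 → x = 0)
    {V V' : X.Opens} (hle : V' ≤ V) (h' : V ⊓ U ≤ V') (s t : Γ(X, V))
    (h : res hle s = res hle t) : s = t := by
  refine sub_eq_zero.mp (eq_zero_of_res_eq_zero U hZ _ ?_)
  rw [← res_res h' hle]
  simp only [res, map_sub] at *
  rw [h, sub_self]

/-- A section on `W ∩ U` extends to the affine open `W` if outside `U` there are weakly regular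
pairs. -/
theorem exists_res_eq (U : X.Opens) [QuasiCompact U.ι]
    (hZ : ∀ z : X, z ∉ U → ∃ a b : X.presheaf.stalk z,
      a ∈ IsLocalRing.maximalIdeal (X.presheaf.stalk z) ∧
      b ∈ IsLocalRing.maximalIdeal (X.presheaf.stalk z) ∧ Pair a b)
    {W : X.Opens} (hW : IsAffineOpen W) (s : Γ(X, W ⊓ U)) :
    ∃ t : Γ(X, W), res (inf_le_left : W ⊓ U ≤ W) t = s := by
  classical
  have hZ1 : ∀ z : X, z ∉ U → ∃ a ∈ IsLocalRing.maximalIdeal (X.presheaf.stalk z),
      ∀ x, a * x = 0 → x = 0 := fun z hz => by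
    obtain ⟨a, b, ha, -, hab⟩ := hZ z hz
    exact ⟨a, ha, hab.1⟩
  let ι := {O : X.Opens // W ⊓ U ≤ O ∧ O ≤ W ∧
    ∃ t : Γ(X, O), ∀ h : W ⊓ U ≤ O, res h t = s}
  let t : (i : ι) → Γ(X, i.1) := fun i => i.2.2.2.choose
  have ht : ∀ i : ι, res i.2.1 (t i) = s := fun i => i.2.2.2.choose_spec i.2.1
  haveI : Nonempty ι := ⟨⟨W ⊓ U, le_rfl, inf_le_left, s, fun h => by simp [res]⟩⟩
  let E : X.Opens := ⨆ i : ι, i.1
  obtain ⟨tE, htE, -⟩ := X.sheaf.existsUnique_gluing' (fun i : ι => i.1) E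
    (fun i => homOfLE (le_iSup (fun i : ι => i.1) i)) le_rfl t (fun i j => by
      change res (inf_le_left : i.1 ⊓ j.1 ≤ i.1) (t i) = res (inf_le_right : i.1 ⊓ j.1 ≤ j.1) (t j)
      refine eq_of_res_eq hZ1 (le_inf i.2.1 j.2.1 : W ⊓ U ≤ i.1 ⊓ j.1)
        (inf_le_inf_right _ (inf_le_left.trans i.2.2.1)) _ _ ?_
      rw [res_res, res_res]
      exact (ht i).trans (ht j).symm)
  have htE' : ∀ i : ι, res (le_iSup (fun i : ι => i.1) i) tE = t i := htE
  have hEW : E ≤ W := iSup_le fun i => i.2.2.1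
  have hUE : W ⊓ U ≤ E := by
    refine le_trans ?_ (le_iSup (fun i : ι => i.1) (Classical.arbitrary ι))
    exact (Classical.arbitrary ι).2.1
  have hEs : res hUE tE = s := by
    rw [← ht (Classical.arbitrary ι), ← htE', res_res]
  -- it suffices to show that `E` is all of `W`
  suffices hWE : W ≤ E by
    refine ⟨res hWE tE, ?_⟩
    rw [res_res]
    exact hEs
  by_contra hWE
  -- a local generic point of the complement
  obtain ⟨y, hyW, hyE⟩ := SetLike.not_le_iff_exists.mp hWE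
  let T : Set (PrimeSpectrum Γ(X, W)) := hW.fromSpec ⁻¹' ((E : Set X)ᶜ)
  have hTc : IsClosed T := E.2.isClosed_compl.preimage hW.fromSpec.continuous
  obtain ⟨I, hI⟩ := (PrimeSpectrum.isClosed_iff_zeroLocus_ideal T).mp hTc
  have hmem : ∀ z (hz : z ∈ W), z ∉ E ↔ I ≤ (hW.primeIdealOf ⟨z, hz⟩).asIdeal := by
    intro z hz
    have h1 : hW.primeIdealOf ⟨z, hz⟩ ∈ T ↔ z ∉ E := by
      change hW.fromSpec _ ∉ E ↔ _
      rw [hW.fromSpec_primeIdealOf]
    rw [← h1, hI]
    exact PrimeSpectrum.mem_zeroLocus _ _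
  obtain ⟨p, hp, hpy⟩ := Ideal.exists_minimalPrimes_le ((hmem y hyW).mp hyE)
  obtain ⟨z, hzW, rfl⟩ : ∃ (z : X) (hzW : z ∈ W), (hW.primeIdealOf ⟨z, hzW⟩).asIdeal = p := by
    let P : PrimeSpectrum Γ(X, W) := ⟨p, hp.1.1⟩
    have hzW : hW.fromSpec P ∈ W := by rw [← SetLike.mem_coe, ← hW.range_fromSpec]; exact ⟨P, rfl⟩
    exact ⟨_, hzW, congrArg PrimeSpectrum.asIdeal
      (hW.fromSpec.isOpenEmbedding.injective (hW.fromSpec_primeIdealOf ⟨_, hzW⟩))⟩
  have hzE : z ∉ E := (hmem z hzW).mpr hp.1.2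
  obtain ⟨a, b, ha, hb, hab⟩ := hZ z (fun hzU => hzE (hUE ⟨hzW, hzU⟩))
  let P := (hW.primeIdealOf ⟨z, hzW⟩).asIdeal
  letI := X.presheaf.algebra_section_stalk ⟨z, hzW⟩
  haveI := hW.isLocalization_stalk ⟨z, hzW⟩
  let α := algebraMap Γ(X, W) (X.presheaf.stalk z)
  have hunit : ∀ g, g ∉ P → IsUnit (α g) := fun g hg =>
    IsLocalization.map_units (X.presheaf.stalk z) (⟨g, hg⟩ : P.primeCompl)
  let rU : Γ(X, W) →+* Γ(X, W ⊓ U) := (X.presheaf.map (homOfLE (inf_le_left : W ⊓ U ≤ W)).op).hom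
  have hcomp : IsCompact ((W ⊓ U : X.Opens) : Set X) := by
    have h1 := (QuasiCompact.isCompact_preimage (f := U.ι) _ W.2 hW.isCompact).image U.ι.continuous
    rw [Set.image_preimage_eq_inter_range, Scheme.Opens.range_ι] at h1
    exact h1
  obtain ⟨H, hH, hUH⟩ : ∃ H : Finset Γ(X, W), (∀ h ∈ H, X.basicOpen h ≤ W ⊓ U) ∧
      W ⊓ U ≤ ⨆ h : H, X.basicOpen h.1 := by
    choose g hg hgx using fun x : (W ⊓ U : X.Opens) =>
      hW.exists_basicOpen_le (V := W ⊓ U) ⟨x.1, x.2⟩ x.2.1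
    obtain ⟨F, hF⟩ := hcomp.elim_finite_subcover (fun x => (X.basicOpen (g x) : Set X))
      (fun x => (X.basicOpen (g x)).2) (fun x hx => Set.mem_iUnion.mpr ⟨⟨x, hx⟩, hgx _⟩)
    refine ⟨F.image g, ?_, fun x hx => ?_⟩
    · intro h hh
      obtain ⟨x, -, rfl⟩ := Finset.mem_image.mp hh
      exact hg x
    · obtain ⟨i, hi, hxi⟩ := Set.mem_iUnion₂.mp (hF hx)
      exact Opens.mem_iSup.mpr ⟨⟨g i, Finset.mem_image_of_mem g hi⟩, hxi⟩
  -- a multiple of `s` by an element in the prime comes from `W`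
  have key1 : ∀ c : X.presheaf.stalk z, c ∈ IsLocalRing.maximalIdeal (X.presheaf.stalk z) →
      ∃ (e : Γ(X, W)) (u : (X.presheaf.stalk z)ˣ) (t₀ : Γ(X, W)) (N : ℕ),
        α e = c * u ∧ rU t₀ = rU e ^ N * s := by
    intro c hc
    obtain ⟨⟨c', ⟨v, hv⟩⟩, hcv⟩ := IsLocalization.surj P.primeCompl c
    have hc' : c' ∈ P := by
      rw [← IsLocalization.AtPrime.to_map_mem_maximal_iff (X.presheaf.stalk z) P]
      exact hcv ▸ Ideal.mul_mem_right _ _ hc
    obtain ⟨g, hg, n, hgn⟩ := exists_pow_mul_mem hp hc'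
    let e := g * c'
    have he : ∃ u : (X.presheaf.stalk z)ˣ, α e = c * u := by
      refine ⟨((hunit g hg).mul (hunit v hv)).unit, ?_⟩
      rw [IsUnit.unit_spec]
      simp only [α, e, map_mul, ← hcv]
      ring
    obtain ⟨u, hu⟩ := he
    have hDE : X.basicOpen e ≤ E := by
      intro x hx
      have hxW : x ∈ W := X.basicOpen_le e hx
      by_contra hxE
      have h1 := (hmem x hxW).mp hxE hgn
      have h2 : e ∉ (hW.primeIdealOf ⟨x, hxW⟩).asIdeal := by
        intro h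
        have h3 : hW.primeIdealOf ⟨x, hxW⟩ ∈ (hW.fromSpec ⁻¹ᵁ X.basicOpen e) := by
          change hW.fromSpec _ ∈ X.basicOpen e
          rw [hW.fromSpec_primeIdealOf]; exact hx
        rw [hW.fromSpec_preimage_basicOpen] at h3
        exact h3 h
      apply h2
      rcases (hW.primeIdealOf ⟨x, hxW⟩).isPrime.mem_or_mem h1 with h | h
      · exact Ideal.mul_mem_right _ _ h
      · exact Ideal.mul_mem_left _ _ ((hW.primeIdealOf ⟨x, hxW⟩).isPrime.mem_of_pow_mem n h)
    letI := (X.presheaf.map (homOfLE (X.basicOpen_le e)).op).hom.toAlgebra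
    haveI : IsLocalization.Away e Γ(X, X.basicOpen e) := hW.isLocalization_basicOpen e
    obtain ⟨m, t₀, ht₀⟩ := IsLocalization.Away.surj e (res hDE tE)
    let d := rU t₀ - rU e ^ m * s
    have hd : ∀ h : H, ∃ k : ℕ, res (hH h.1 h.2) (rU e ^ k * d) = 0 := by
      intro h
      let hh := h.1
      letI := (X.presheaf.map (homOfLE (X.basicOpen_le hh)).op).hom.toAlgebra
      haveI : IsLocalization.Away hh Γ(X, X.basicOpen hh) := hW.isLocalization_basicOpen hh
      let eh := res (X.basicOpen_le hh) e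
      letI := (X.presheaf.map (homOfLE (X.basicOpen_le eh)).op).hom.toAlgebra
      haveI : IsLocalization.Away eh Γ(X, X.basicOpen eh) :=
        (hW.basicOpen hh).isLocalization_basicOpen eh
      have hle : X.basicOpen eh ≤ X.basicOpen e := by
        simp only [eh, res, Scheme.basicOpen_res]
        exact inf_le_right
      have h0 : algebraMap Γ(X, X.basicOpen hh) Γ(X, X.basicOpen eh) (res (hH hh h.2) d) = 0 := by
        change res (X.basicOpen_le eh) (res (hH hh h.2) d) = 0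
        simp only [d, res, map_sub, map_mul, map_pow, rU, sub_eq_zero]
        change res _ (res _ (res _ t₀)) = res _ (res _ (res _ e)) ^ m * res _ (res _ s)
        rw [← hEs, res_res, res_res, res_res, res_res, res_res, res_res,
          ← res_res hle (X.basicOpen_le e) t₀, ← res_res hle (X.basicOpen_le e) e,
          ← res_res hle hDE tE]
        change res hle (algebraMap Γ(X, W) Γ(X, X.basicOpen e) t₀) = _
        rw [← ht₀]
        simp only [res, map_mul, map_pow]
        exact mul_comm _ _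
      obtain ⟨⟨_, k, rfl⟩, hk⟩ := (IsLocalization.map_eq_zero_iff (Submonoid.powers eh) _ _).mp h0
      refine ⟨k, ?_⟩
      simp only [res, map_mul, map_pow]
      change res _ (res _ e) ^ k * _ = 0
      rw [res_res]
      exact hk
    choose k hk using hd
    let K := Finset.univ.sup k
    refine ⟨e, u, e ^ K * t₀, K + m, hu, ?_⟩
    rw [map_mul, map_pow, pow_add, mul_assoc, ← sub_eq_zero, ← mul_sub]
    refine TopCat.Sheaf.eq_of_locally_eq' X.sheaf (fun h : H => X.basicOpen h.1) _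
      (fun h => homOfLE (hH h.1 h.2)) hUH _ _ fun h => ?_
    change res (hH h.1 h.2) (rU e ^ K * d) = res (hH h.1 h.2) 0
    obtain ⟨l, hl⟩ := Nat.exists_eq_add_of_le (Finset.le_sup (f := k) (Finset.mem_univ h))
    rw [show rU e ^ K = rU e ^ l * rU e ^ k h by rw [← pow_add, add_comm l]; exact congrArg _ hl,
      mul_assoc]
    have := hk h
    simp only [res, map_mul, map_zero] at this ⊢
    rw [this, mul_zero]
  obtain ⟨e, u, t₀, N, he, het⟩ := key1 a ha
  obtain ⟨f, v, u₀, M, hf, hfu⟩ := key1 b hb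
  have hrel : f ^ M * t₀ = e ^ N * u₀ := by
    refine eq_of_res_eq hZ1 (inf_le_left : W ⊓ U ≤ W) le_rfl _ _ ?_
    change rU _ = rU _
    rw [map_mul, map_mul, map_pow, map_pow, het, hfu]
    ring
  have hP : Pair (α e ^ N) (α f ^ M) := by
    rw [he, hf]
    exact (hab.mul_units u v).pow N M
  obtain ⟨r, hr⟩ := hP.2 (α t₀) (α u₀) (by rw [← map_pow, ← map_pow, ← map_mul, ← map_mul, hrel])
  obtain ⟨⟨r₀, ⟨c, hc⟩⟩, hrc⟩ := IsLocalization.surj P.primeCompl r
  have h2 : α (c * t₀) = α (e ^ N * r₀) := by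
    rw [map_mul, map_mul, map_pow, hr]
    simp only [α] at hrc ⊢
    rw [← hrc]
    ring
  obtain ⟨⟨c', hc'⟩, hcc⟩ := (IsLocalization.eq_iff_exists P.primeCompl _).mp h2
  let w := rU (c' * c) * s - rU (c' * r₀)
  have hw : rU e ^ N * w = 0 := by
    simp only [w, mul_sub, sub_eq_zero]
    rw [show rU e ^ N * (rU (c' * c) * s) = rU (c' * c) * (rU e ^ N * s) by ring, ← het,
      ← map_pow, ← map_mul, ← map_mul]
    congr 1
    linear_combination hcc
  have hd : ∀ h : H, ∃ g ∉ P, res (hH h.1 h.2) (rU g * w) = 0 := by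
    intro h
    let hh := h.1
    letI := (X.presheaf.map (homOfLE (X.basicOpen_le hh)).op).hom.toAlgebra
    haveI : IsLocalization.Away hh Γ(X, X.basicOpen hh) := hW.isLocalization_basicOpen hh
    obtain ⟨n, w₀, hw₀⟩ := IsLocalization.Away.surj hh (res (hH hh h.2) w)
    have hrr : ∀ g : Γ(X, W), res (hH hh h.2) (rU g) = algebraMap Γ(X, W) _ g := fun g =>
      res_res (hH hh h.2) inf_le_left g
    have h0 : algebraMap Γ(X, W) Γ(X, X.basicOpen hh) (e ^ N * w₀) = 0 := by
      rw [map_mul, map_pow, ← hw₀, ← hrr e, ← mul_assoc]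
      simp only [res, ← map_pow, ← map_mul]
      rw [map_pow rU, hw, map_zero, zero_mul]
    obtain ⟨⟨_, l, rfl⟩, hl⟩ := (IsLocalization.map_eq_zero_iff (Submonoid.powers hh) _ _).mp h0
    have h3 : α (hh ^ l * w₀) = 0 := by
      refine hP.1 _ ?_
      rw [← map_pow, ← map_mul, ← mul_left_comm]
      exact (congrArg α hl).trans (map_zero α)
    obtain ⟨⟨g, hg⟩, hgw⟩ := (IsLocalization.map_eq_zero_iff P.primeCompl _ _).mp h3
    refine ⟨g, hg, ?_⟩
    have hu1 : IsUnit (algebraMap Γ(X, W) Γ(X, X.basicOpen hh) hh) :=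
      IsLocalization.Away.algebraMap_isUnit hh
    have h4 := congrArg (algebraMap Γ(X, W) Γ(X, X.basicOpen hh)) hgw
    simp only [map_mul, map_pow, map_zero, ← hw₀] at h4
    rw [show res (hH hh h.2) (rU g * w) = res (hH hh h.2) (rU g) * res (hH hh h.2) w from map_mul _ _ _,
      hrr]
    refine ((hu1.pow l).mul (hu1.pow n)).mul_left_eq_zero.mp ?_
    rw [← h4]
    ring
  choose g hgP hgw using hd
  let G := ∏ h, g h
  have hGP : G ∉ P := fun hG => by
    obtain ⟨h, -, hh⟩ := (hW.primeIdealOf ⟨z, hzW⟩).isPrime.prod_mem_iff.mp hG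
    exact hgP h hh
  have hGw : rU G * w = 0 := by
    refine TopCat.Sheaf.eq_of_locally_eq' X.sheaf (fun h : H => X.basicOpen h.1) _
      (fun h => homOfLE (hH h.1 h.2)) hUH _ _ fun h => ?_
    change res (hH h.1 h.2) (rU G * w) = res (hH h.1 h.2) 0
    rw [show G = (∏ i ∈ Finset.univ.erase h, g i) * g h from
      (Finset.prod_erase_mul _ _ (Finset.mem_univ h)).symm, map_mul, mul_assoc]
    have := hgw h
    simp only [res, map_mul, map_zero] at this ⊢
    rw [this, mul_zero]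
  let Q := G * (c' * c)
  have hQ : Q ∉ P := P.primeCompl.mul_mem hGP (P.primeCompl.mul_mem hc' hc)
  have hQeq : rU Q * s = rU (G * (c' * r₀)) := by
    rw [← sub_eq_zero, map_mul, map_mul rU G (c' * r₀), mul_assoc, ← mul_sub]
    exact hGw
  letI := (X.presheaf.map (homOfLE (X.basicOpen_le Q)).op).hom.toAlgebra
  haveI : IsLocalization.Away Q Γ(X, X.basicOpen Q) := hW.isLocalization_basicOpen Q
  have hQu : IsUnit (res (X.basicOpen_le Q) Q) := IsLocalization.Away.algebraMap_isUnit Q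
  let sQ : Γ(X, X.basicOpen Q) :=
    ↑hQu.unit⁻¹ * res (X.basicOpen_le Q) (G * (c' * r₀))
  have hzQ : z ∈ X.basicOpen Q := by
    have h1 : hW.primeIdealOf ⟨z, hzW⟩ ∈ hW.fromSpec ⁻¹ᵁ X.basicOpen Q := by
      rw [hW.fromSpec_preimage_basicOpen]; exact hQ
    change hW.fromSpec _ ∈ X.basicOpen Q at h1
    rwa [hW.fromSpec_primeIdealOf] at h1
  -- glue with `tE`
  have hagree : res (inf_le_left : E ⊓ X.basicOpen Q ≤ E) tE =
      res (inf_le_right : E ⊓ X.basicOpen Q ≤ X.basicOpen Q) sQ := by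
    refine eq_of_res_eq hZ1 (le_refl _) inf_le_left _ _ ?_
    refine eq_of_res_eq hZ1 (inf_le_left : E ⊓ X.basicOpen Q ⊓ U ≤ E ⊓ X.basicOpen Q) le_rfl _ _ ?_
    simp only [res_res]
    have hle : E ⊓ X.basicOpen Q ⊓ U ≤ W ⊓ U := inf_le_inf_right _ (inf_le_left.trans hEW)
    rw [← res_res hle hUE tE, hEs]
    have hle2 : E ⊓ X.basicOpen Q ⊓ U ≤ X.basicOpen Q := inf_le_left.trans inf_le_right
    have h5 := congrArg (res hle) hQeq
    simp only [res, map_mul] at h5
    change res hle (res inf_le_left Q) * res hle s = _ at h5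
    refine (IsUnit.mul_right_inj (hQu.map (X.presheaf.map (homOfLE hle2).op).hom)).mp ?_
    change res hle2 (res (X.basicOpen_le Q) Q) * res hle s = res hle2 (res (X.basicOpen_le Q) Q) * res hle2 sQ
    have h6 : res (X.basicOpen_le Q) Q * sQ = res (X.basicOpen_le Q) (G * (c' * r₀)) := by
      simp only [sQ]
      rw [← mul_assoc, IsUnit.mul_val_inv, one_mul]
    have h7 : res hle2 (res (X.basicOpen_le Q) Q) * res hle2 sQ =
        res hle (rU (G * (c' * r₀))) := by
      rw [show res hle2 (res (X.basicOpen_le Q) Q) * res hle2 sQ =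
        res hle2 (res (X.basicOpen_le Q) Q * sQ) from (map_mul _ _ _).symm, h6]
      change _ = res hle (res inf_le_left _)
      rw [res_res, res_res]
    rw [h7]
    conv_rhs => rw [← hQeq]
    rw [show res hle2 (res (X.basicOpen_le Q) Q) = res hle (res inf_le_left Q) by rw [res_res, res_res]]
    exact (map_mul _ _ _).symm
  let O := E ⊔ X.basicOpen Q
  obtain ⟨tO, htO, -⟩ := X.sheaf.existsUnique_gluing' (fun i : Bool => bif i then E else X.basicOpen Q) O
    (fun i => homOfLE (by cases i <;> simp [O]))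
    (sup_le (le_iSup_of_le true le_rfl) (le_iSup_of_le false le_rfl))
    (fun i => match i with | true => tE | false => sQ)
    (fun i j => by
      match i, j with
      | true, true => rfl
      | false, false => rfl
      | true, false => exact hagree
      | false, true =>
        change res (inf_le_left : X.basicOpen Q ⊓ E ≤ X.basicOpen Q) sQ = res inf_le_right tE
        have := congrArg (res (le_inf inf_le_right inf_le_left :
          X.basicOpen Q ⊓ E ≤ E ⊓ X.basicOpen Q)) hagree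
        rw [res_res, res_res] at this
        exact this.symm)
  have hO : res (le_sup_left : E ≤ O) tO = tE := htO true
  exact hzE (Opens.mem_iSup.mpr ⟨⟨O, hUE.trans le_sup_left, sup_le hEW (X.basicOpen_le Q), tO,
    fun h => by rw [← hEs, ← hO, res_res]⟩, Or.inr hzQ⟩)

end Groth.Agent.H75.Extend
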