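import Groth.Agent.H75.Extend.Sections
import Groth.Agent.Lib.SchDense.Factor
import Mathlib.AlgebraicGeometry.Morphisms.Affine
import Mathlib.AlgebraicGeometry.Morphisms.Separated
import Mathlib.AlgebraicGeometry.Gluing

/-!
Extending morphisms to affine targets across a closed set of depth ≥ 2.
-/

set_option autoImplicit false

universe u

open CategoryTheory CategoryTheory.Limits AlgebraicGeometry TopologicalSpace Opposite

namespace Groth.Agent.H75.Extend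

variable {X : Scheme.{u}}

/-- Every point outside `U` has a regular element in its maximal ideal. -/
def HasReg (U : X.Opens) : Prop := ∀ z : X, z ∉ U →
  ∃ a ∈ IsLocalRing.maximalIdeal (X.presheaf.stalk z), ∀ x, a * x = 0 → x = 0

theorem HasReg.preimage {U : X.Opens} (hU : HasReg U) {P : Scheme.{u}} (q : P ⟶ X)
    [IsOpenImmersion q] : HasReg (q ⁻¹ᵁ U) := fun z hz => by
  obtain ⟨a, ha, hreg⟩ := hU (q z) hz
  let e := (asIso (q.stalkMap z)).commRingCatIsoToRingEquiv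
  refine ⟨e a, ?_, fun x hx => ?_⟩
  · rw [IsLocalRing.mem_maximalIdeal, mem_nonunits_iff] at ha ⊢
    exact fun h => ha ((isUnit_map_iff e a).mp h)
  · have := hreg (e.symm x) (e.injective (by simp [hx]))
    simpa using congrArg e this

theorem HasReg.isSchematicallyDense {U : X.Opens} (hU : HasReg U) : CInt.IsSchematicallyDense U :=
  fun V s t h => sub_eq_zero.mp (eq_zero_of_res_eq_zero U hU _ (by
    simp only [res, map_sub, sub_eq_zero]
    exact h))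

theorem HasReg.ext {U : X.Opens} (hU : HasReg U) {Y Z : Scheme.{u}} {g₁ g₂ : X ⟶ Y} (f : Y ⟶ Z)
    [IsSeparated f] (h : g₁ ≫ f = g₂ ≫ f) (hd : U.ι ≫ g₁ = U.ι ≫ g₂) : g₁ = g₂ :=
  Lib.SchDense.Basic.ext_of_isSchematicallyDense f h hU.isSchematicallyDense hd

/-- Every point outside `U` has a weakly regular pair in its maximal ideal. -/
def HasPair (U : X.Opens) : Prop := ∀ z : X, z ∉ U → ∃ a b : X.presheaf.stalk z,
  a ∈ IsLocalRing.maximalIdeal (X.presheaf.stalk z) ∧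
  b ∈ IsLocalRing.maximalIdeal (X.presheaf.stalk z) ∧ Pair a b

theorem HasPair.hasReg {U : X.Opens} (hU : HasPair U) : HasReg U := fun z hz => by
  obtain ⟨a, b, ha, -, hab⟩ := hU z hz
  exact ⟨a, ha, hab.1⟩

theorem res_bijective {U : X.Opens} [QuasiCompact U.ι] (hU : HasPair U) {W V : X.Opens}
    (hW : IsAffineOpen W) (hV : V = W ⊓ U) (h : V ≤ W) : Function.Bijective (res h) := by
  subst hV
  refine ⟨fun s t hst => ?_, fun s => ?_⟩
  · exact hU.hasReg.isSchematicallyDense W hst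
  · obtain ⟨t, ht⟩ := exists_res_eq U hU hW s
    exact ⟨t, ht⟩

theorem existsUnique_lift {T W Z : Scheme.{u}} [IsAffine W] [IsAffine Z] (j : T ⟶ W)
    [IsIso j.appTop] (t : T ⟶ Z) : ∃! s : W ⟶ Z, j ≫ s = t := by
  refine ⟨W.toSpecΓ ≫ Spec.map (t.appTop ≫ inv j.appTop) ≫ Z.isoSpec.inv, ?_, fun s hs => ?_⟩
  · change j ≫ W.toSpecΓ ≫ Spec.map (t.appTop ≫ inv j.appTop) ≫ Z.isoSpec.inv = t
    rw [Scheme.toSpecΓ_naturality_assoc, ← Spec.map_comp_assoc, Category.assoc, IsIso.inv_hom_id,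
      Category.comp_id, ← Scheme.toSpecΓ_naturality_assoc]
    simp [Scheme.isoSpec]
  · have h : s.appTop ≫ j.appTop = t.appTop := by rw [← Scheme.Hom.comp_appTop, hs]
    rw [← h, Category.assoc, IsIso.hom_inv_id, Category.comp_id,
      ← Scheme.toSpecΓ_naturality_assoc]
    simp [Scheme.isoSpec]

theorem isIso_appTop {U : X.Opens} [QuasiCompact U.ι] (hU : HasPair U) {W : X.Opens}
    (hW : IsAffineOpen W) : IsIso ((W.ι ⁻¹ᵁ U).ι.appTop) := by
  rw [ConcreteCategory.isIso_iff_bijective]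
  refine res_bijective hU (W := W.ι ''ᵁ (⊤ : W.toScheme.Opens))
    (V := W.ι ''ᵁ ((W.ι ⁻¹ᵁ U).ι ''ᵁ ⊤)) (by rwa [Scheme.Opens.ι_image_top]) ?_ _
  rw [Scheme.Opens.ι_image_top, Scheme.Opens.ι_image_top,
    Scheme.Hom.image_preimage_eq_opensRange_inf, Scheme.Opens.opensRange_ι]

theorem existsUnique_extension {U : X.Opens} [QuasiCompact U.ι] (hU : HasPair U) {Y : Scheme.{u}}
    (f : Y ⟶ X) [IsAffineHom f] (t : (U : Scheme.{u}) ⟶ Y) (ht : t ≫ f = U.ι) :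
    ∃! s : X ⟶ Y, s ≫ f = 𝟙 X ∧ U.ι ≫ s = t := by
  have key : ∀ W : X.affineOpens, ∃ s : (W.1 : Scheme.{u}) ⟶ Y, s ≫ f = W.1.ι ∧
      (W.1.ι ⁻¹ᵁ U).ι ≫ s = (W.1.ι ∣_ U) ≫ t := by
    intro W
    haveI : IsAffine (W.1 : Scheme.{u}) := W.2
    haveI : IsAffine (f ⁻¹ᵁ W.1 : Scheme.{u}) := W.2.preimage f
    haveI := isIso_appTop hU W.2
    let j := (W.1.ι ⁻¹ᵁ U).ι
    have hcomm : ((W.1.ι ∣_ U) ≫ t) ≫ f = j ≫ W.1.ι := by
      rw [Category.assoc, ht, morphismRestrict_ι]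
    let t₀ := (isPullback_morphismRestrict f W.1).lift j ((W.1.ι ∣_ U) ≫ t) hcomm.symm
    obtain ⟨s₀, hs₀, -⟩ := existsUnique_lift j t₀
    obtain ⟨_, -, huniq⟩ := existsUnique_lift j j
    refine ⟨s₀ ≫ (f ⁻¹ᵁ W.1).ι, ?_, ?_⟩
    · have h1 : s₀ ≫ (f ∣_ W.1) = 𝟙 _ := by
        refine (huniq _ ?_).trans (huniq _ (Category.comp_id j)).symm
        change j ≫ s₀ ≫ (f ∣_ W.1) = j
        rw [← Category.assoc, hs₀, IsPullback.lift_fst]
      rw [Category.assoc, ← morphismRestrict_ι, ← Category.assoc, h1, Category.id_comp]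
    · rw [← Category.assoc, hs₀]
      exact IsPullback.lift_snd _ _ _ _
  choose s hsf hsU using key
  let 𝒰 := X.openCoverOfIsOpenCover (fun W : X.affineOpens => W.1) (.mk (iSup_affineOpens_eq_top X))
  have hcompat : ∀ W W' : X.affineOpens,
      pullback.fst W.1.ι W'.1.ι ≫ s W = pullback.snd W.1.ι W'.1.ι ≫ s W' := by
    intro W W'
    let q := pullback.fst W.1.ι W'.1.ι ≫ W.1.ι
    refine (hU.hasReg.preimage q).ext f (by rw [Category.assoc, Category.assoc, hsf, hsf, pullback.condition]) ?_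
    have hle : ∀ (V : X.affineOpens) (r : pullback W.1.ι W'.1.ι ⟶ V.1) (hr : r ≫ V.1.ι = q),
        (q ⁻¹ᵁ U).ι ≫ r ≫ s V = (q ∣_ U) ≫ t := by
      intro V r hr
      have hr' : Set.range ((q ⁻¹ᵁ U).ι ≫ r) ⊆ Set.range (V.1.ι ⁻¹ᵁ U).ι := by
        rw [Scheme.Opens.range_ι]
        rintro _ ⟨a, rfl⟩
        change V.1.ι (r ((q ⁻¹ᵁ U).ι a)) ∈ U
        rw [← Scheme.Hom.comp_apply r, hr]
        exact a.2
      let r' := IsOpenImmersion.lift (V.1.ι ⁻¹ᵁ U).ι ((q ⁻¹ᵁ U).ι ≫ r) hr'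
      have hr'' : r' ≫ (V.1.ι ⁻¹ᵁ U).ι = (q ⁻¹ᵁ U).ι ≫ r := IsOpenImmersion.lift_fac _ _ _
      rw [← Category.assoc, ← hr'', Category.assoc, hsU, ← Category.assoc]
      congr 1
      rw [← cancel_mono U.ι, Category.assoc, morphismRestrict_ι, ← Category.assoc, hr'',
        Category.assoc, hr, morphismRestrict_ι]
    rw [hle W _ rfl, hle W' _ pullback.condition.symm]
  have hG : U.ι ≫ 𝒰.glueMorphisms s hcompat = t := by
    let 𝒱 := U.toScheme.openCoverOfIsOpenCover (fun W : X.affineOpens => U.ι ⁻¹ᵁ W.1)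
      (.mk (eq_top_iff.mpr fun y _ => by
        obtain ⟨W, hW⟩ := Opens.mem_iSup.mp ((iSup_affineOpens_eq_top X).ge (Set.mem_univ y.1))
        exact Opens.mem_iSup.mpr ⟨W, hW⟩))
    refine Scheme.Cover.hom_ext 𝒱 _ _ fun W => ?_
    change (U.ι ⁻¹ᵁ W.1).ι ≫ U.ι ≫ 𝒰.glueMorphisms s hcompat = (U.ι ⁻¹ᵁ W.1).ι ≫ t
    let r := U.ι ∣_ W.1
    have hr : r ≫ W.1.ι = (U.ι ⁻¹ᵁ W.1).ι ≫ U.ι := morphismRestrict_ι _ _
    rw [← Category.assoc, ← hr, Category.assoc]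
    rw [show W.1.ι ≫ 𝒰.glueMorphisms s hcompat = s W from Scheme.Cover.ι_glueMorphisms 𝒰 s hcompat W]
    have hr' : Set.range r ⊆ Set.range (W.1.ι ⁻¹ᵁ U).ι := by
      rw [Scheme.Opens.range_ι]
      rintro _ ⟨a, rfl⟩
      change W.1.ι (r a) ∈ U
      rw [← Scheme.Hom.comp_apply r, hr]
      exact ((U.ι ⁻¹ᵁ W.1).ι a).2
    rw [← IsOpenImmersion.lift_fac _ r hr', Category.assoc, hsU, ← Category.assoc]
    congr 1
    rw [← cancel_mono U.ι, Category.assoc, morphismRestrict_ι, IsOpenImmersion.lift_fac_assoc, hr]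
  refine ⟨𝒰.glueMorphisms s hcompat, ⟨?_, ?_⟩, fun s' ⟨hs'f, hs'U⟩ => ?_⟩
  · refine Scheme.Cover.hom_ext 𝒰 _ _ fun W => ?_
    rw [← Category.assoc, Scheme.Cover.ι_glueMorphisms, Category.comp_id]
    exact hsf W
  · exact hG
  · refine hU.hasReg.ext f ?_ ?_
    · rw [hs'f]
      symm
      refine Scheme.Cover.hom_ext 𝒰 _ _ fun W => ?_
      rw [← Category.assoc, Scheme.Cover.ι_glueMorphisms, Category.comp_id]
      exact hsf W
    · rw [hs'U]
      exact hG.symm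

end Groth.Agent.H75.Extend
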