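import Mathlib.RingTheory.Regular.RegularSequence
import Mathlib.RingTheory.Ideal.MinimalPrime.Basic
import Mathlib.RingTheory.Localization.AtPrime.Basic
import Mathlib.RingTheory.Localization.Away.Basic
import Mathlib.Tactic.LinearCombination

/-!
Elementary facts about regular elements and minimal primes for extending sections.
-/

set_option autoImplicit false

universe u

namespace Groth.Agent.H75.Extend

variable {R : Type u} [CommRing R]

/-- Elementwise form of a weakly regular pair. -/
def Pair (a b : R) : Prop := (∀ x, a * x = 0 → x = 0) ∧ ∀ x y, b * x = a * y → ∃ w, x = a * w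

theorem Pair.of_isWeaklyRegular {a b : R} (h : RingTheory.Sequence.IsWeaklyRegular R [a, b]) :
    Pair a b := by
  rw [RingTheory.Sequence.isWeaklyRegular_cons_iff, RingTheory.Sequence.isWeaklyRegular_cons_iff] at h
  obtain ⟨ha, hb, -⟩ := h
  refine ⟨fun x hx => ha (show a • x = a • 0 by simpa using hx), fun x y hxy => ?_⟩
  have h1 : b • (Submodule.Quotient.mk x : QuotSMulTop a R) = b • 0 := by
    rw [smul_zero, ← Submodule.Quotient.mk_smul, Submodule.Quotient.mk_eq_zero,
      Submodule.mem_smul_pointwise_iff_exists]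
    exact ⟨y, trivial, hxy.symm⟩
  obtain ⟨w, -, hw⟩ := Submodule.mem_smul_pointwise_iff_exists _ _ _ |>.mp
    ((Submodule.Quotient.mk_eq_zero _).mp (hb h1))
  exact ⟨w, hw.symm⟩

theorem Pair.mul_units {a b : R} (h : Pair a b) (u v : Rˣ) : Pair (a * u) (b * v) := by
  refine ⟨fun x hx => ?_, fun x y hxy => ?_⟩
  · have := h.1 (u * x) (by rw [← mul_assoc]; exact hx)
    exact (Units.mul_right_eq_zero u).mp this
  · obtain ⟨w, hw⟩ := h.2 (v * x) (u * y) (by rw [← mul_assoc, ← mul_assoc]; exact hxy)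
    refine ⟨(↑u⁻¹ * ↑v⁻¹ : R) * w, (Units.mul_right_inj v).mp ?_⟩
    calc (v : R) * x = a * w := hw
      _ = ((v : R) * ↑v⁻¹) * ((u : R) * ↑u⁻¹) * (a * w) := by simp
      _ = _ := by ring

theorem Pair.pow {a b : R} (h : Pair a b) (n m : ℕ) : Pair (a ^ n) (b ^ m) := by
  have hreg : ∀ k x, a ^ k * x = 0 → x = 0 := fun k => by
    induction k with
    | zero => intro x hx; simpa using hx
    | succ k ih => intro x hx; exact h.1 _ (ih _ (by rw [← mul_assoc, ← pow_succ]; exact hx))
  have h1 : ∀ k x y, b * x = a ^ k * y → ∃ w, x = a ^ k * w := fun k => by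
    induction k with
    | zero => intro x y _; exact ⟨x, by simp⟩
    | succ k ih =>
      intro x y hxy
      obtain ⟨x', rfl⟩ := h.2 x (a ^ k * y) (by rw [hxy, pow_succ']; ring)
      have : b * x' = a ^ k * y := by
        refine sub_eq_zero.mp (h.1 _ ?_)
        linear_combination hxy
      obtain ⟨w, rfl⟩ := ih x' y this
      exact ⟨w, by ring⟩
  refine ⟨hreg n, ?_⟩
  induction m with
  | zero => intro x y hxy; exact ⟨y, by simpa using hxy⟩
  | succ m ih =>
    intro x y hxy
    obtain ⟨w, hw⟩ := ih (b * x) y (by rw [← mul_assoc, ← pow_succ]; exact hxy)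
    exact h1 n x w hw

/-- At a minimal prime over an ideal, every element of the prime has a power in the ideal up to
an element outside the prime. -/
theorem exists_pow_mul_mem {I p : Ideal R} (hp : p ∈ I.minimalPrimes) {x : R} (hx : x ∈ p) :
    ∃ g ∉ p, ∃ n : ℕ, g * x ^ n ∈ I := by
  haveI := hp.1.1
  by_contra h
  push Not at h
  let S : Submonoid R :=
    { carrier := {r | ∃ g ∉ p, ∃ n : ℕ, r = g * x ^ n}
      one_mem' := ⟨1, p.primeCompl.one_mem, 0, by simp⟩
      mul_mem' := by
        rintro _ _ ⟨g, hg, n, rfl⟩ ⟨g', hg', n', rfl⟩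
        exact ⟨g * g', p.primeCompl.mul_mem hg hg', n + n', by ring⟩ }
  obtain ⟨Q, hQ, hIQ, hdis⟩ := Ideal.exists_le_prime_disjoint I S
    (Set.disjoint_left.mpr fun r hrI ⟨g, hg, n, hr⟩ => h g hg n (hr ▸ hrI))
  have hQp : Q ≤ p := fun r hr => by
    by_contra hrp
    exact Set.disjoint_left.mp hdis hr ⟨r, hrp, 0, by simp⟩
  exact Set.disjoint_left.mp hdis (hp.2 ⟨hQ, hIQ⟩ hQp hx) ⟨1, p.primeCompl.one_mem, 1, by simp⟩

end Groth.Agent.H75.Extend
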